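import Cfsg.Agent.Lib.Invol.TwoTimesAlt.Basic
import Cfsg.Agent.Lib.Invol.ZStar
import Cfsg.Agent.Lib.OddConseq.ElemEight.Orders
import Cfsg.Agent.Lib.Classical.ProjLine
import Cfsg.Agent.Lib.Perm.Dickson.Subfield
import Cfsg.Agent.S1230
import Cfsg.Agent.S0813
import Mathlib.GroupTheory.SpecificGroups.ZGroup

/-!
# An involution with centralizer `2 × A₄`: the group is `PΓL(2, 8)`
-/

set_option autoImplicit false
set_option linter.style.haveILetI false
set_option linter.unusedSectionVars false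

namespace CfsgLib.Invol.TwoTimesAlt

open Subgroup

universe u

local notation "A4" => alternatingGroup (Fin 4)

theorem alt_four_card : Nat.card (alternatingGroup (Fin 4)) = 12 := by
  rw [Nat.card_eq_fintype_card]; decide +kernel

theorem alt_four_pow_eight : ∀ y : A4, y ^ 8 = 1 → y * y = 1 := by decide +kernel

theorem alt_four_conj : ∀ a b : A4, a * a = 1 → a ≠ 1 → b * b = 1 → b ≠ 1 → ∃ c, c * a * c⁻¹ = b := by
  decide +kernel

theorem alt_four_cent : ∀ x : A4, (∀ v : A4, v * v = 1 → x * v = v * x) → x * x = 1 := by decide +kernel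

theorem alt_four_invols : Nat.card {v : A4 // v * v = 1} = 4 := by
  rw [Nat.card_eq_fintype_card]; decide +kernel

theorem alt_four_invols' : Nat.card {v : A4 // v * v = 1 ∧ v ≠ 1} = 3 := by
  rw [Nat.card_eq_fintype_card]; decide +kernel

variable {G : Type u} [Group G] [Finite G] {J : G} {ι : alternatingGroup (Fin 4) →* G} {P : Sylow 2 G}
  (h : Hyp J ι P)
include h

theorem Hyp.card_C : Nat.card (centralizer ({J} : Set G)) = 24 := by
  rw [show (24 : ℕ) = Nat.card (zpowers J × A4) by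
    rw [Nat.card_prod, Nat.card_zpowers, h.invol, alt_four_card]]
  refine (Nat.card_congr (Equiv.ofBijective (fun z : zpowers J × A4 =>
    (⟨z.1 * ι z.2, mul_mem (zpowers_le.2 (mem_centralizer_singleton_iff.2 rfl) z.1.2)
      (mem_centralizer_singleton_iff.2 (h.comm z.2).symm.eq)⟩ : centralizer ({J} : Set G))) ⟨?_, ?_⟩)).symm
  · intro a b hab
    have e : (a.1 : G) * ι a.2 = b.1 * ι b.2 := congrArg Subtype.val hab
    have e2 : (b.1 : G)⁻¹ * a.1 = ι (b.2 * a.2⁻¹) := by
      rw [map_mul, map_inv, eq_mul_inv_iff_mul_eq, mul_assoc, e, inv_mul_cancel_left]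
    have hz : (b.1 : G)⁻¹ * a.1 = 1 := by
      rcases ProdFusion.mem_zpowers_invol (invol_mul_self h.invol) (mul_mem (inv_mem b.1.2) a.1.2)
        with hh | hh
      · exact hh
      · exact absurd ⟨_, e2.symm.trans hh⟩ h.notMem
    refine Prod.ext (Subtype.ext (inv_mul_eq_one.1 hz).symm) (h.inj ?_)
    rw [hz, map_mul, map_inv, eq_comm, mul_inv_eq_one] at e2
    exact e2.symm
  · rintro ⟨y, hy⟩
    obtain ⟨j, hj, x, e⟩ := h.decomp y (mem_centralizer_singleton_iff.1 hy)
    exact ⟨(⟨j, hj⟩, x), Subtype.ext e.symm⟩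

theorem Hyp.card_P : Nat.card (P : Subgroup G) = 8 := by
  haveI : Fact (Nat.Prime 2) := ⟨Nat.prime_two⟩
  have hd := card_dvd_of_le h.le
  rw [h.card_C] at hd
  obtain ⟨k, hk⟩ := P.2.exists_card_eq
  have h8 : 8 ∣ Nat.card (P : Subgroup G) := by
    obtain ⟨R, hR⟩ := Sylow.exists_subgroup_card_pow_prime 2 (G := G) (n := 3)
      ((show 2 ^ 3 ∣ Nat.card (centralizer ({J} : Set G)) by rw [h.card_C]; norm_num).trans
        (card_subgroup_dvd_card _))
    obtain ⟨S, hS⟩ := (IsPGroup.of_card (p := 2) (n := 3) hR).exists_le_sylow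
    rw [P.card_eq_multiplicity, ← S.card_eq_multiplicity, show (8 : ℕ) = 2 ^ 3 from rfl, ← hR]
    exact card_dvd_of_le hS
  rw [hk] at hd h8 ⊢
  have hk1 : k ≤ 3 := by
    by_contra hlt
    have := (pow_dvd_pow 2 (show 4 ≤ k by omega)).trans hd
    norm_num at this
  have hk2 : 3 ≤ k := Nat.pow_dvd_pow_iff_le_right (x := 2) (by norm_num) |>.1 (show 2 ^ 3 ∣ 2 ^ k from h8)
  rw [show k = 3 by omega]
  norm_num

theorem Hyp.mem_P_iff {y : G} : y ∈ (P : Subgroup G) ↔ Commute y J ∧ y * y = 1 := by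
  classical
  have hfwd : ∀ z ∈ (P : Subgroup G), ∃ j ∈ zpowers J, ∃ v : A4, v * v = 1 ∧ z = j * ι v := by
    intro z hz
    obtain ⟨j, hj, v, rfl⟩ := h.decomp z (mem_centralizer_singleton_iff.1 (h.le hz))
    refine ⟨j, hj, v, alt_four_pow_eight v (h.inj ?_), rfl⟩
    have h1 : (j * ι v) ^ 8 = 1 := by
      rw [← h.card_P]
      exact congrArg Subtype.val (pow_card_eq_one' (x := (⟨_, hz⟩ : (P : Subgroup G))))
    have hj2 : j ^ 2 = 1 := by
      rcases ProdFusion.mem_zpowers_invol (invol_mul_self h.invol) hj with rfl | rfl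
      · exact one_pow 2
      · rw [sq, invol_mul_self h.invol]
    have hcj : Commute j (ι v) := by
      obtain ⟨k, rfl⟩ := mem_zpowers_iff.1 hj
      exact (h.comm v).zpow_left k
    rw [hcj.mul_pow, show j ^ 8 = (j ^ 2) ^ 4 from pow_mul j 2 4, hj2, one_pow, one_mul] at h1
    rw [map_pow, h1, map_one]
  constructor
  · intro hy
    refine ⟨mem_centralizer_singleton_iff.1 (h.le hy), ?_⟩
    obtain ⟨j, hj, v, hv, rfl⟩ := hfwd y hy
    rcases ProdFusion.mem_zpowers_invol (invol_mul_self h.invol) hj with rfl | rfl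
    · rw [one_mul, ← map_mul, hv, map_one]
    · rw [(h.comm v).symm.mul_mul_mul_comm, invol_mul_self h.invol, one_mul, ← map_mul, hv, map_one]
  · rintro ⟨hyc, hyy⟩
    obtain ⟨j, hj, x, rfl⟩ := h.decomp y hyc
    have hx : x * x = 1 := h.inj (by
      rcases ProdFusion.mem_zpowers_invol (invol_mul_self h.invol) hj with rfl | rfl
      · rwa [one_mul, ← map_mul, ← map_one ι] at hyy
      · rwa [(h.comm x).symm.mul_mul_mul_comm, invol_mul_self h.invol, one_mul, ← map_mul, ← map_one ι] at hyy)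
    choose fj hfj fv hfv hfe using fun z : (P : Subgroup G) => hfwd z z.2
    have hinj : Function.Injective (fun z : (P : Subgroup G) =>
        ((⟨fj z, hfj z⟩, ⟨fv z, hfv z⟩) : zpowers J × {v : A4 // v * v = 1})) := by
      intro a b e
      refine Subtype.ext ?_
      rw [hfe a, hfe b, show fj a = fj b from congrArg (fun w => (w.1 : G)) e,
        show fv a = fv b from congrArg (fun w => (w.2 : A4)) e]
    have hbij := (Nat.bijective_iff_injective_and_card _).2 ⟨hinj, by
      rw [h.card_P, Nat.card_prod, Nat.card_zpowers, h.invol, alt_four_invols]⟩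
    obtain ⟨z, hz⟩ := hbij.2 (⟨j, hj⟩, ⟨x, hx⟩)
    have := z.2
    rwa [hfe z, show fj z = j from congrArg (fun w => (w.1 : G)) hz,
      show fv z = x from congrArg (fun w => (w.2 : A4)) hz] at this

theorem Hyp.sq_P : ∀ s ∈ (P : Subgroup G), s ^ 2 = 1 := fun s hs => by
  rw [sq]; exact (h.mem_P_iff.1 hs).2

theorem Hyp.comm_P : ∀ a ∈ (P : Subgroup G), ∀ b ∈ (P : Subgroup G), Commute a b := fun a ha b hb => by
  have ea := inv_eq_of_mul_eq_one_right (h.mem_P_iff.1 ha).2
  have eb := inv_eq_of_mul_eq_one_right (h.mem_P_iff.1 hb).2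
  have eab := inv_eq_of_mul_eq_one_right (h.mem_P_iff.1 (mul_mem ha hb)).2
  show a * b = b * a
  rw [← eab, mul_inv_rev, ea, eb]

theorem Hyp.C_le : centralizer ({J} : Set G) ≤ normalizer ((P : Subgroup G) : Set G) := by
  intro c hc
  refine ProdFusion.mem_of_forall_conj_mem fun x hx => h.mem_P_iff.2 ⟨?_, ?_⟩
  · have hcJ : Commute c J := mem_centralizer_singleton_iff.1 hc
    exact (hcJ.mul_left (h.mem_P_iff.1 hx).1).mul_left hcJ.inv_left
  · rw [show c * x * c⁻¹ * (c * x * c⁻¹) = c * (x * x) * c⁻¹ by group, (h.mem_P_iff.1 hx).2, mul_one,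
      mul_inv_cancel]

theorem Hyp.ι_mem {v : A4} (hv : v * v = 1) : ι v ∈ (P : Subgroup G) :=
  h.mem_P_iff.2 ⟨(h.comm v).symm, by rw [← map_mul, hv, map_one]⟩

theorem Hyp.self_cent {y : G} (hy : ∀ s ∈ (P : Subgroup G), Commute y s) : y ∈ (P : Subgroup G) := by
  have hJ := hy J h.mem
  obtain ⟨j, hj, x, rfl⟩ := h.decomp y hJ
  have hjP : j ∈ (P : Subgroup G) := zpowers_le.2 h.mem hj
  refine mul_mem hjP (h.ι_mem (alt_four_cent x fun v hv => h.inj ?_))
  rw [map_mul, map_mul]
  have h1 : Commute (j⁻¹ * (j * ι x)) (ι v) :=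
    ((h.comm_P _ (inv_mem hjP) _ (h.ι_mem hv))).mul_left (hy _ (h.ι_mem hv))
  rw [inv_mul_cancel_left] at h1
  exact h1.eq

/-- Elements of the Sylow subgroup conjugate in the group are conjugate in its normalizer. -/
theorem Hyp.exists_normalizer_conj {a b : G} (ha : a ∈ (P : Subgroup G)) (hb : b ∈ (P : Subgroup G))
    (hab : IsConj a b) : ∃ k ∈ normalizer ((P : Subgroup G) : Set G), k * a * k⁻¹ = b := by
  haveI : Fact (Nat.Prime 2) := ⟨Nat.prime_two⟩
  haveI : IsMulCommutative (P : Subgroup G) :=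
    ⟨⟨fun x y => Subtype.ext (h.comm_P _ x.2 _ y.2).eq⟩⟩
  obtain ⟨g, hg⟩ := isConj_iff.1 hab
  obtain ⟨n, hn, e⟩ := P.conj_eq_normalizer_conj_of_mem a g⁻¹ ha (by rw [inv_inv, hg]; exact hb)
  rw [inv_inv, hg] at e
  exact ⟨n⁻¹, inv_mem hn, by rw [inv_inv]; exact e.symm⟩

/-- The normalizer of the Sylow subgroup is transitive on its involutions. -/
theorem Hyp.transitive {x : G} (hx : x ∈ (P : Subgroup G)) (hx1 : x ≠ 1) :
    ∃ k ∈ normalizer ((P : Subgroup G) : Set G), k * J * k⁻¹ = x := by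
  classical
  haveI : Fact (Nat.Prime 2) := ⟨Nat.prime_two⟩
  set H := normalizer ((P : Subgroup G) : Set G) with hH
  set X : Set G := {y | ∃ k ∈ H, k * J * k⁻¹ = y} with hX
  have hXP : ∀ y ∈ X, y ∈ (P : Subgroup G) ∧ y ≠ 1 := by
    rintro _ ⟨k, hk, rfl⟩
    exact ⟨(mem_normalizer_iff.1 hk J).1 h.mem, fun e => invol_ne_one h.invol (conj_eq_one_iff.1 e)⟩
  have hCX : ∀ c, Commute c J → ∀ y ∈ X, c * y * c⁻¹ ∈ X := by
    rintro c hc _ ⟨k, hk, rfl⟩
    exact ⟨c * k, mul_mem (h.C_le (mem_centralizer_singleton_iff.2 hc.eq)) hk, by group⟩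
  obtain ⟨g, σ, hσ, hσ1, hg⟩ := h.exists_conj_mem
  have hσX : ∀ v : A4, v * v = 1 → v ≠ 1 → ι v ∈ X := by
    intro v hv hv1
    obtain ⟨c, hc⟩ := alt_four_conj σ v hσ hσ1 hv hv1
    rw [← hc, map_mul, map_mul, map_inv]
    exact hCX _ (h.comm c).symm _ (h.exists_normalizer_conj h.mem (h.ι_mem hσ) (isConj_iff.2 ⟨g, hg⟩))
  by_cases hmix : ∃ v : A4, v * v = 1 ∧ v ≠ 1 ∧ J * ι v ∈ X
  · obtain ⟨v₀, hv₀, hv₀1, hv₀X⟩ := hmix
    obtain ⟨j, hj, v, rfl⟩ := h.decomp x (mem_centralizer_singleton_iff.1 (h.le hx))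
    have hv : v * v = 1 := h.inj (by
      have := (h.mem_P_iff.1 (show ι v ∈ (P : Subgroup G) by
        have := mul_mem (inv_mem (zpowers_le.2 h.mem hj : j ∈ (P : Subgroup G))) hx
        rwa [inv_mul_cancel_left] at this)).2
      rw [map_mul, this, map_one])
    rcases ProdFusion.mem_zpowers_invol (invol_mul_self h.invol) hj with rfl | rfl
    · rw [one_mul] at hx1 ⊢
      exact hσX v hv fun e => hx1 (by rw [e, map_one])
    · by_cases hv1 : v = 1
      · exact ⟨1, one_mem _, by rw [hv1, map_one]; group⟩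
      · obtain ⟨c, hc⟩ := alt_four_conj v₀ v hv₀ hv₀1 hv hv1
        have := hCX _ (h.comm c).symm _ hv₀X
        rwa [show ι c * (j * ι v₀) * (ι c)⁻¹ = j * ι v by
          rw [← mul_assoc, ← (h.comm c).eq, ← hc, map_mul, map_mul, map_inv]; group] at this
  exfalso
  push Not at hmix
  -- otherwise the class has four elements
  set T := H ⊓ centralizer ({J} : Set G) with hT
  have hodd : ¬ 2 ∣ T.relIndex H := fun h2 => P.not_dvd_index
    ((h2.trans (relIndex_dvd_index_of_le inf_le_left)).trans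
      (index_dvd_of_le (le_inf le_normalizer h.le)))
  let f : H ⧸ T.subgroupOf H → X := Quotient.lift (fun k => ⟨k * J * (k : G)⁻¹, k, k.2, rfl⟩) fun a b hab => by
    have hm : a⁻¹ * b ∈ T.subgroupOf H := QuotientGroup.leftRel_apply.1 hab
    have hc : ((a : G)⁻¹ * b) * J = J * ((a : G)⁻¹ * b) :=
      mem_centralizer_singleton_iff.1 (mem_subgroupOf.1 hm).2
    refine Subtype.ext ?_
    calc (a : G) * J * (a : G)⁻¹ = (a : G) * (J * ((a : G)⁻¹ * b)) * (b : G)⁻¹ := by group
      _ = (b : G) * J * (b : G)⁻¹ := by rw [← hc]; group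
  have hbij : Function.Bijective f := by
    constructor
    · rintro ⟨a⟩ ⟨b⟩ hab
      refine Quotient.sound (QuotientGroup.leftRel_apply.2 (mem_subgroupOf.2 ⟨H.mul_mem (H.inv_mem a.2) b.2, ?_⟩))
      have e : (a : G) * J * (a : G)⁻¹ = (b : G) * J * (b : G)⁻¹ := congrArg Subtype.val hab
      refine mem_centralizer_singleton_iff.2 ?_
      calc (a : G)⁻¹ * b * J = (a : G)⁻¹ * ((b : G) * J * (b : G)⁻¹) * b := by group
        _ = J * ((a : G)⁻¹ * b) := by rw [← e]; group
    · rintro ⟨_, k, hk, rfl⟩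
      exact ⟨QuotientGroup.mk ⟨k, hk⟩, rfl⟩
  have h4 : Nat.card X = 4 := by
    have e : Nat.card (Option {v : A4 // v * v = 1 ∧ v ≠ 1}) = 4 := by
      rw [Finite.card_option, alt_four_invols']
    rw [← e]
    refine (Nat.card_eq_of_bijective (fun o => (o.elim ⟨J, 1, one_mem _, by group⟩
      (fun v => ⟨ι v.1, hσX v.1 v.2.1 v.2.2⟩) : X)) ⟨?_, ?_⟩).symm
    · rintro (_ | a) (_ | b) eq
      · rfl
      · exact absurd ⟨b.1, (congrArg Subtype.val eq).symm⟩ h.notMem
      · exact absurd ⟨a.1, congrArg Subtype.val eq⟩ h.notMem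
      · exact congrArg some (Subtype.ext (h.inj (congrArg Subtype.val eq)))
    · rintro ⟨y, hy⟩
      obtain ⟨hyP, hy1⟩ := hXP y hy
      obtain ⟨j, hj, v, rfl⟩ := h.decomp y (mem_centralizer_singleton_iff.1 (h.le hyP))
      have hv : v * v = 1 := h.inj (by
        have := (h.mem_P_iff.1 (show ι v ∈ (P : Subgroup G) by
          have := mul_mem (inv_mem (zpowers_le.2 h.mem hj : j ∈ (P : Subgroup G))) hyP
          rwa [inv_mul_cancel_left] at this)).2
        rw [map_mul, this, map_one])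
      rcases ProdFusion.mem_zpowers_invol (invol_mul_self h.invol) hj with rfl | rfl
      · exact ⟨some ⟨v, hv, fun e => hy1 (by rw [e, map_one, mul_one])⟩, Subtype.ext (one_mul _).symm⟩
      · by_cases hv1 : v = 1
        · exact ⟨none, Subtype.ext (show j = j * ι v by rw [hv1, map_one, mul_one])⟩
        · exact absurd hy (hmix v hv hv1)
  have hcard := Nat.card_eq_of_bijective f hbij
  rw [h4] at hcard
  exact hodd (show 2 ∣ Nat.card (H ⧸ T.subgroupOf H) by rw [hcard]; norm_num)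

theorem Hyp.isConj_of_invol {x : G} (hx : orderOf x = 2) : IsConj J x := by
  haveI : Fact (Nat.Prime 2) := ⟨Nat.prime_two⟩
  obtain ⟨g, hg⟩ := exists_conj_le_sylow (Q := zpowers x)
    (IsPGroup.of_card (n := 1) (by rw [Nat.card_zpowers, hx, pow_one])) P
  obtain ⟨k, -, hk⟩ := h.transitive (hg _ (mem_zpowers x))
    (fun e => invol_ne_one hx (conj_eq_one_iff.1 e))
  refine isConj_iff.2 ⟨g⁻¹ * k, ?_⟩
  rw [show g⁻¹ * k * J * (g⁻¹ * k)⁻¹ = g⁻¹ * (k * J * k⁻¹) * g by group, hk]
  group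

theorem Hyp.card_H : Nat.card (normalizer ((P : Subgroup G) : Set G)) = 168 := by
  classical
  set H := normalizer ((P : Subgroup G) : Set G) with hH
  set C := centralizer ({J} : Set G) with hC
  let f : H ⧸ C.subgroupOf H → {y : (P : Subgroup G) // y ≠ 1} :=
    Quotient.lift (fun k => ⟨⟨k * J * (k : G)⁻¹, (mem_normalizer_iff.1 k.2 J).1 h.mem⟩,
      fun e => invol_ne_one h.invol (conj_eq_one_iff.1 (congrArg Subtype.val e))⟩) fun a b hab => by
    have hm : a⁻¹ * b ∈ C.subgroupOf H := QuotientGroup.leftRel_apply.1 hab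
    have hc : ((a : G)⁻¹ * b) * J = J * ((a : G)⁻¹ * b) :=
      mem_centralizer_singleton_iff.1 (mem_subgroupOf.1 hm)
    refine Subtype.ext (Subtype.ext ?_)
    calc (a : G) * J * (a : G)⁻¹ = (a : G) * (J * ((a : G)⁻¹ * b)) * (b : G)⁻¹ := by group
      _ = (b : G) * J * (b : G)⁻¹ := by rw [← hc]; group
  have hbij : Function.Bijective f := by
    constructor
    · rintro ⟨a⟩ ⟨b⟩ hab
      refine Quotient.sound (QuotientGroup.leftRel_apply.2 (mem_subgroupOf.2 (mem_centralizer_singleton_iff.2 ?_)))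
      have e : (a : G) * J * (a : G)⁻¹ = (b : G) * J * (b : G)⁻¹ :=
        congrArg (fun z : {y : (P : Subgroup G) // y ≠ 1} => ((z.1 : (P : Subgroup G)) : G)) hab
      calc (a : G)⁻¹ * b * J = (a : G)⁻¹ * ((b : G) * J * (b : G)⁻¹) * b := by group
        _ = J * ((a : G)⁻¹ * b) := by rw [← e]; group
    · rintro ⟨⟨y, hy⟩, hy1⟩
      obtain ⟨k, hk, e⟩ := h.transitive hy (fun e => hy1 (Subtype.ext e))
      exact ⟨QuotientGroup.mk ⟨k, hk⟩, Subtype.ext (Subtype.ext e)⟩
  have hc := Nat.card_eq_of_bijective f hbij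
  haveI := Fintype.ofFinite ↥(P : Subgroup G)
  rw [Nat.card_eq_fintype_card (α := {y : (P : Subgroup G) // y ≠ 1}),
    Fintype.card_subtype_compl (fun s : ↥(P : Subgroup G) => s = 1),
    Fintype.card_subtype_eq, ← Nat.card_eq_fintype_card, h.card_P] at hc
  have hm := (C.subgroupOf H).card_mul_index
  rw [Nat.card_congr (subgroupOfEquivOfLe h.C_le).toEquiv, h.card_C] at hm
  have : (C.subgroupOf H).index = 7 := hc
  rw [this] at hm
  exact hm.symm

theorem Hyp.invol_mem_P {t : G} (ht : t ∈ normalizer ((P : Subgroup G) : Set G)) (hto : orderOf t = 2) :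
    t ∈ (P : Subgroup G) := by
  haveI : Fact (Nat.Prime 2) := ⟨Nat.prime_two⟩
  exact (P.3 ((IsPGroup.of_card (n := 1) (by rw [Nat.card_zpowers, hto, pow_one]) :
    IsPGroup 2 (zpowers t)).to_sup_of_normal_right' P.2 (zpowers_le.2 ht)) le_sup_right).le
    (mem_sup_left (mem_zpowers t))

theorem Hyp.fuse {t g : G} (ht : t ∈ normalizer ((P : Subgroup G) : Set G)) (hto : orderOf t = 2)
    (hg : g * t * g⁻¹ ∈ normalizer ((P : Subgroup G) : Set G)) :
    g ∈ normalizer ((P : Subgroup G) : Set G) := by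
  obtain ⟨a, ha, rfl⟩ := h.transitive (h.invol_mem_P ht hto) (invol_ne_one hto)
  obtain ⟨b, hb, e⟩ := h.transitive (h.invol_mem_P hg (invol_conj hto g)) (invol_ne_one (invol_conj hto g))
  have hc : Commute (b⁻¹ * g * a) J := by
    show b⁻¹ * g * a * J = J * (b⁻¹ * g * a)
    calc b⁻¹ * g * a * J = b⁻¹ * (g * (a * J * a⁻¹) * g⁻¹) * g * a := by group
      _ = J * (b⁻¹ * g * a) := by rw [← e]; group
  have := mul_mem (mul_mem hb (h.C_le (mem_centralizer_singleton_iff.2 hc.eq))) (inv_mem ha)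
  rwa [show b * (b⁻¹ * g * a) * a⁻¹ = g by group] at this

theorem Hyp.cent_le {t : G} (ht : t ∈ (P : Subgroup G)) (ht1 : t ≠ 1) {c : G} (hc : Commute c t) :
    c ∈ normalizer ((P : Subgroup G) : Set G) := by
  have hto : orderOf t = 2 := orderOf_eq_prime (hp := ⟨Nat.prime_two⟩) (h.sq_P t ht) ht1
  exact h.fuse (le_normalizer ht) hto (by rw [hc.eq, mul_inv_cancel_right]; exact le_normalizer ht)

/-- An odd subgroup normalized by the Sylow subgroup is trivial. -/
theorem Hyp.odd_trivial {K : Subgroup G} (hK : Odd (Nat.card K))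
    (hn : (P : Subgroup G) ≤ normalizer (K : Set G)) : K = ⊥ := by
  haveI : Fact (Nat.Prime 2) := ⟨Nat.prime_two⟩
  haveI : IsMulCommutative (P : Subgroup G) :=
    ⟨⟨fun x y => Subtype.ext (h.comm_P _ x.2 _ y.2).eq⟩⟩
  rw [eq_bot_iff]
  refine CfsgLib.Coprime.le_of_centralizers_le (A := (P : Subgroup G)) ?_ hn ?_ ?_
  · intro hc
    obtain ⟨g, hg⟩ := hc.exists_generator
    have := orderOf_dvd_of_pow_eq_one (show g ^ 2 = 1 from Subtype.ext (h.sq_P g g.2))
    rw [orderOf_eq_card_of_forall_mem_zpowers hg, h.card_P] at this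
    norm_num at this
  · rw [h.card_P]
    exact Nat.Coprime.pow_left 3 (Nat.coprime_two_left.2 hK)
  rintro t ht ht1 u ⟨huK, huc⟩
  have huH := h.cent_le ht ht1 (mem_centralizer_singleton_iff.1 huc)
  have huP : u ∈ (P : Subgroup G) := h.self_cent fun s hs => by
    have h1 : u * s * u⁻¹ * s⁻¹ ∈ (P : Subgroup G) :=
      mul_mem ((mem_normalizer_iff.1 huH s).1 hs) (inv_mem hs)
    have h2 : u * s * u⁻¹ * s⁻¹ ∈ K := by
      rw [show u * s * u⁻¹ * s⁻¹ = u * (s * u⁻¹ * s⁻¹) by group]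
      exact K.mul_mem huK ((mem_normalizer_iff.1 (hn hs) _).1 (K.inv_mem huK))
    have h3 := ProdFusion.eq_one_of_sq hK h2 (h.mem_P_iff.1 h1).2
    exact mul_inv_eq_iff_eq_mul.1 (mul_inv_eq_one.1 h3)
  exact mem_bot.2 (ProdFusion.eq_one_of_sq hK huK (h.mem_P_iff.1 huP).2)

theorem Hyp.H_ne_top (hns : ¬ Group.IsSolvable G) : normalizer ((P : Subgroup G) : Set G) ≠ ⊤ := by
  intro htop
  haveI : (P : Subgroup G).Normal := normalizer_eq_top_iff.1 htop
  have hG : Nat.card G = 168 := by rw [← h.card_H, htop, card_top]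
  have hq : Nat.card (G ⧸ (P : Subgroup G)) = 21 := by
    have := (P : Subgroup G).card_eq_card_quotient_mul_card_subgroup
    rw [hG, h.card_P] at this
    omega
  haveI : IsZGroup (G ⧸ (P : Subgroup G)) := IsZGroup.of_squarefree (by
    rw [hq, Nat.squarefree_iff_nodup_primeFactorsList (by norm_num)]
    simp)
  haveI hsP : Group.IsSolvable (P : Subgroup G) :=
    Group.isSolvable_of_comm fun a b => Subtype.ext (h.comm_P _ a.2 _ b.2).eq
  exact hns (Group.isSolvable_of_ker_le_range (P : Subgroup G).subtype (QuotientGroup.mk' (P : Subgroup G))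
    (by rw [QuotientGroup.ker_mk', Subgroup.range_subtype]))

theorem psl_of_four (hns : ¬ Group.IsSolvable G) :
    ∃ (F : Type) (_ : Field F) (_ : Fintype F), Fintype.card F = 8 ∧
      Nonempty (G ≃* MulAut (Matrix.ProjectiveSpecialLinearGroup (Fin 2) F)) := by
  classical
  haveI : Fact (Nat.Prime 2) := ⟨Nat.prime_two⟩
  set H := normalizer ((P : Subgroup G) : Set G) with hH
  set C := centralizer ({J} : Set G) with hC
  have hHtop := h.H_ne_top hns
  set N := normalClosure ({J} : Set G) with hN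
  haveI hNn : N.Normal := normalClosure_normal
  have hJN : J ∈ N := subset_normalClosure (Set.mem_singleton _)
  have hinvN : ∀ x : G, orderOf x = 2 → x ∈ N := fun x hx => by
    obtain ⟨k, rfl⟩ := isConj_iff.1 (h.isConj_of_invol hx)
    exact hNn.conj_mem _ hJN k
  have hPN : (P : Subgroup G) ≤ N := fun x hx => by
    by_cases hx1 : x = 1
    · rw [hx1]; exact one_mem _
    · exact hinvN x (orderOf_eq_prime (h.sq_P x hx) hx1)
  have hNH : ¬ N ≤ H := by
    intro hle
    refine hHtop (eq_top_iff.2 fun g _ => ?_)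
    refine h.fuse (le_normalizer h.mem) h.invol ?_
    exact hle (hNn.conj_mem _ hJN g)
  -- fusion of involutions inside the normal closure
  set NH := N ⊓ H with hNHdef
  have hNHn : ∀ k ∈ H, ∀ x ∈ NH, k * x * k⁻¹ ∈ NH := fun k hk x hx =>
    ⟨hNn.conj_mem _ hx.1 k, H.mul_mem (H.mul_mem hk hx.2) (H.inv_mem hk)⟩
  have htrans : ∀ x ∈ (P : Subgroup G), x ≠ 1 → ∃ k ∈ NH, k * J * k⁻¹ = x := by
    have hHle : H ≤ normalizer (NH : Set G) := fun k hk => ProdFusion.mem_of_forall_conj_mem (hNHn k hk)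
    have hMle : NH ⊔ C ≤ H := sup_le inf_le_right h.C_le
    have hidx : C.relIndex H = 7 := by
      have hm := (C.subgroupOf H).card_mul_index
      rw [Nat.card_congr (subgroupOfEquivOfLe h.C_le).toEquiv, h.card_C, h.card_H] at hm
      show (C.subgroupOf H).index = 7
      omega
    rcases (Nat.dvd_prime (by norm_num : Nat.Prime 7)).1
        (Dvd.intro _ ((relIndex_mul_relIndex C (NH ⊔ C) H le_sup_right hMle).trans hidx)) with h1 | h7
    · -- the normal closure would be isolated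
      exfalso
      have hle : NH ≤ C := le_sup_left.trans (relIndex_eq_one.1 h1)
      have hNHP : ∀ x ∈ NH, x ∈ (P : Subgroup G) := fun x hx => h.self_cent fun s hs => by
        by_cases hs1 : s = 1
        · rw [hs1]; exact Commute.one_right x
        obtain ⟨k, hk, rfl⟩ := h.transitive hs hs1
        have := mem_centralizer_singleton_iff.1 (hle (hNHn k⁻¹ (H.inv_mem hk) x hx))
        rw [inv_inv] at this
        show x * (k * J * k⁻¹) = k * J * k⁻¹ * x
        calc x * (k * J * k⁻¹) = k * (k⁻¹ * x * k * J) * k⁻¹ := by group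
          _ = k * (J * (k⁻¹ * x * k)) * k⁻¹ := by rw [this]
          _ = k * J * k⁻¹ * x := by group
      let PN : Sylow 2 N := P.subtype hPN
      haveI : IsMulCommutative (PN : Subgroup N) :=
        ⟨⟨fun a b => Subtype.ext (Subtype.ext (h.comm_P _ a.2 _ b.2).eq)⟩⟩
      have hiso : Cfsg.IsIsolatedInvolution (⟨J, hJN⟩ : N) := by
        refine ⟨by rw [Subgroup.orderOf_mk]; exact h.invol, fun n hn => ?_⟩
        have hc : Commute ((n : G) * J * (n : G)⁻¹) J := (congrArg Subtype.val hn.eq).symm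
        have hP' : (n : G) * J * (n : G)⁻¹ ∈ (P : Subgroup G) :=
          h.mem_P_iff.2 ⟨hc, invol_mul_self (invol_conj h.invol _)⟩
        obtain ⟨m, hm, e⟩ := PN.conj_eq_normalizer_conj_of_mem (⟨J, hJN⟩ : N) n⁻¹ h.mem
          (by rw [inv_inv]; exact hP')
        have hmH : (m : G) ∈ H := ProdFusion.mem_of_forall_conj_mem fun x hx =>
          ((mem_normalizer_iff.1 hm ⟨x, hPN hx⟩).1 hx : _)
        have hmP := hNHP _ ⟨m.2, hmH⟩
        have e' : (n : G) * J * (n : G)⁻¹ = (m : G)⁻¹ * J * m := by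
          have := congrArg Subtype.val e
          simpa using this
        refine Subtype.ext ?_
        show (n : G) * J * (n : G)⁻¹ = J
        rw [e', mul_assoc, (h.comm_P _ h.mem _ hmP).eq, inv_mul_cancel_left]
      have hON : ProdFusion.OC N = ⊥ := h.odd_trivial (ProdFusion.odd_card_OC N)
        (hPN.trans (ProdFusion.le_normalizer_OC_self N))
      refine hNH fun n hn => ?_
      have hz := zstar hiso ⟨n, hn⟩
      have hm : J * n * J⁻¹ * n⁻¹ ∈ ProdFusion.OC N := ⟨_, hz, rfl⟩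
      rw [hON, mem_bot, mul_inv_eq_one] at hm
      exact h.C_le (mem_centralizer_singleton_iff.2 (mul_inv_eq_iff_eq_mul.1 hm).symm)
    · intro x hx hx1
      obtain ⟨k, hk, rfl⟩ := h.transitive hx hx1
      have hkM : k ∈ NH ⊔ C := by
        have h2 := relIndex_mul_relIndex C (NH ⊔ C) H le_sup_right hMle
        rw [hidx, h7] at h2
        exact (relIndex_eq_one.1 (show (NH ⊔ C).relIndex H = 1 by omega)) hk
      obtain ⟨a, ha, c, hc, rfl⟩ := CfsgLib.Coprime.mem_sup_exists (N := NH) (H := C)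
        (h.C_le.trans hHle) hkM
      refine ⟨a, ha, ?_⟩
      rw [show a * c * J * (a * c)⁻¹ = a * (c * J * c⁻¹) * a⁻¹ by group,
        mem_centralizer_singleton_iff.1 hc, mul_inv_cancel_right]
  -- the normal closure is simple
  have hNne : Nontrivial N := ⟨⟨⟨J, hJN⟩, 1, fun e => invol_ne_one h.invol (congrArg Subtype.val e)⟩⟩
  haveI hsimple : IsSimpleGroup N := ⟨fun K hK => by
    by_cases hodd : Odd (Nat.card K)
    · left
      have := h.odd_trivial (K := K.map N.subtype)
        (by rw [card_map_of_injective N.subtype_injective]; exact hodd)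
        (fun p hp => ProdFusion.mem_of_forall_conj_mem fun x hx => by
          obtain ⟨y, hy, rfl⟩ := hx
          exact ⟨⟨p, hPN hp⟩ * y * ⟨p, hPN hp⟩⁻¹, hK.conj_mem y hy _, rfl⟩)
      exact (map_eq_bot_iff_of_injective _ N.subtype_injective).1 this
    · right
      obtain ⟨w, hw, hwo⟩ := exists_invol_mem (Nat.not_odd_iff_even.1 hodd)
      have hwo' : orderOf (w : G) = 2 := by rw [Subgroup.orderOf_coe]; exact hwo
      obtain ⟨n, hn⟩ := exists_conj_le_sylow (Q := zpowers w)
        (IsPGroup.of_card (n := 1) (by rw [Nat.card_zpowers, hwo, pow_one])) (P.subtype hPN)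
      have hwP : (n : G) * w * (n : G)⁻¹ ∈ (P : Subgroup G) := hn _ (mem_zpowers w)
      obtain ⟨a, ha, e⟩ := htrans _ hwP (invol_ne_one (invol_conj hwo' _))
      have hJK : (⟨J, hJN⟩ : N) ∈ K := by
        have := hK.conj_mem _ hw ((⟨a, ha.1⟩ : N)⁻¹ * n)
        convert this using 1
        refine Subtype.ext ?_
        show J = a⁻¹ * n * w * (a⁻¹ * n)⁻¹
        rw [show a⁻¹ * (n : G) * w * (a⁻¹ * n)⁻¹ = a⁻¹ * ((n : G) * w * (n : G)⁻¹) * a by group, ← e]
        group
      have hall : ∀ x : G, ∀ hx : orderOf x = 2, (⟨x, hinvN x hx⟩ : N) ∈ K := by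
        intro x hx
        obtain ⟨m, hm⟩ := exists_conj_le_sylow (Q := zpowers (⟨x, hinvN x hx⟩ : N))
          (IsPGroup.of_card (n := 1) (by rw [Nat.card_zpowers, Subgroup.orderOf_mk, hx, pow_one])) (P.subtype hPN)
        have hxP : (m : G) * x * (m : G)⁻¹ ∈ (P : Subgroup G) := hm _ (mem_zpowers _)
        obtain ⟨b, hb, e'⟩ := htrans _ hxP (invol_ne_one (invol_conj hx _))
        have := hK.conj_mem _ hJK (m⁻¹ * (⟨b, hb.1⟩ : N))
        convert this using 1
        refine Subtype.ext ?_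
        show x = (m : G)⁻¹ * b * J * ((m : G)⁻¹ * b)⁻¹
        rw [show (m : G)⁻¹ * b * J * ((m : G)⁻¹ * b)⁻¹ = (m : G)⁻¹ * (b * J * b⁻¹) * m by group, e']
        group
      refine eq_top_iff.2 fun z _ => ?_
      have hle : N ≤ K.map N.subtype := by
        refine (closure_le _).2 fun y hy => ?_
        obtain ⟨s, hs, hsy⟩ := Group.mem_conjugatesOfSet_iff.1 hy
        obtain ⟨k, rfl⟩ := isConj_iff.1 hsy
        rw [Set.mem_singleton_iff.1 hs]
        exact ⟨_, hall _ (invol_conj h.invol k), rfl⟩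
      obtain ⟨y, hy, e'⟩ := hle z.2
      rwa [← show y = z from Subtype.ext e']⟩
  have hNnc : ¬ IsMulCommutative N := fun hc => hNH fun n hn => h.C_le (mem_centralizer_singleton_iff.2
    (congrArg Subtype.val (hc.is_comm.comm (⟨n, hn⟩ : N) ⟨J, hJN⟩)))
  -- the centralizer of the involution in the normal closure
  have hCN : ¬ C ≤ N := by
    intro hle
    have hHN : H ≤ N := by
      intro k hk
      obtain ⟨a, ha, e⟩ := htrans _ ((mem_normalizer_iff.1 hk J).1 h.mem)
        (fun e => invol_ne_one h.invol (conj_eq_one_iff.1 e))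
      have hc : a⁻¹ * k * J = J * (a⁻¹ * k) := by
        calc a⁻¹ * k * J = a⁻¹ * (k * J * k⁻¹) * k := by group
          _ = J * (a⁻¹ * k) := by rw [← e]; group
      have := N.mul_mem ha.1 (hle (mem_centralizer_singleton_iff.2 hc))
      rwa [mul_inv_cancel_left] at this
    have hH' : H.subgroupOf N ≠ ⊤ := fun e => hNH (subgroupOf_eq_top.1 e)
    have hc168 : Nat.card (H.subgroupOf N) = 168 := by
      rw [Nat.card_congr (subgroupOfEquivOfLe hHN).toEquiv, h.card_H]
    have hSE : Cfsg.IsStronglyEmbedded (H.subgroupOf N) := by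
      rw [stronglyEmbedded_iff hH' (by rw [hc168]; decide)]
      intro t ht hto g hg
      exact h.fuse ht ((Subgroup.orderOf_coe t).trans hto) hg
    refine CfsgLib.ElemEight.false_of_conf (G := N) ⟨(P : Subgroup G).subgroupOf N, H.subgroupOf N, hSE,
      hc168, by rw [Nat.card_congr (subgroupOfEquivOfLe hPN).toEquiv, h.card_P],
      fun x hx => le_normalizer (show (x : G) ∈ (P : Subgroup G) from hx),
      fun k hk s hs => (mem_normalizer_iff.1 hk _).1 hs,
      fun s hs => Subtype.ext (by rw [SubmonoidClass.coe_pow]; exact h.sq_P _ hs),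
      fun a ha b hb => Subtype.ext (h.comm_P _ ha _ hb).eq,
      fun x hx => h.self_cent fun s hs => congrArg Subtype.val (hx ⟨s, hPN hs⟩ hs).eq,
      fun t ht hto c hc => ?_⟩ hNnc
    exact h.cent_le ht (fun e => invol_ne_one hto (Subtype.ext e))
      (congrArg Subtype.val (mem_centralizer_singleton_iff.1 hc))
  have hCNP : C ⊓ N = (P : Subgroup G) := by
    refine (eq_of_le_of_card_ge (le_inf h.le hPN) ?_).symm
    rw [h.card_P]
    have hd := card_dvd_of_le (inf_le_left : C ⊓ N ≤ C)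
    have h8 := card_dvd_of_le (le_inf h.le hPN : (P : Subgroup G) ≤ C ⊓ N)
    rw [h.card_C] at hd
    rw [h.card_P] at h8
    have hne : Nat.card ↥(C ⊓ N) ≠ 24 := fun e => hCN (inf_eq_left.1
      (eq_of_le_of_card_ge inf_le_left (by rw [e, h.card_C])))
    obtain ⟨r, hr⟩ := h8
    rw [hr] at hd hne ⊢
    have : r ∣ 3 := Nat.dvd_of_mul_dvd_mul_left (by norm_num) (show 8 * r ∣ 8 * 3 from hd)
    rcases (Nat.dvd_prime Nat.prime_three).1 this with rfl | rfl
    · norm_num
    · exact absurd rfl hne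
  let PN : Sylow 2 N := P.subtype hPN
  have hPN8 : Nat.card (PN : Subgroup N) = 8 :=
    (Nat.card_congr (subgroupOfEquivOfLe hPN).toEquiv).trans h.card_P
  have hnc : ¬ IsCyclic (PN : Subgroup N) := by
    intro hc
    obtain ⟨g, hg⟩ := hc.exists_generator
    have := orderOf_dvd_of_pow_eq_one (show g ^ 2 = 1 from Subtype.ext (Subtype.ext (h.sq_P _ g.2)))
    rw [orderOf_eq_card_of_forall_mem_zpowers hg, hPN8] at this
    norm_num at this
  have hnn : ¬ (PN : Subgroup N).Normal := by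
    intro hnorm
    refine hNH fun n hn => ProdFusion.mem_of_forall_conj_mem fun x hx => ?_
    exact hnorm.conj_mem (⟨x, hPN hx⟩ : N) hx ⟨n, hn⟩
  have hcent : ∀ t : N, orderOf t = 2 → IsMulCommutative (centralizer ({t} : Set N)) ∧
      ∀ c ∈ centralizer ({t} : Set N), c ^ 2 = 1 := by
    intro t ht
    have hto : orderOf (t : G) = 2 := (Subgroup.orderOf_coe t).trans ht
    obtain ⟨a, ha⟩ := isConj_iff.1 (h.isConj_of_invol hto)
    have hin : ∀ c ∈ centralizer ({t} : Set N), a⁻¹ * (c : G) * a ∈ (P : Subgroup G) := by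
      intro c hc
      have hc' : (c : G) * t = t * c := congrArg Subtype.val (mem_centralizer_singleton_iff.1 hc)
      rw [← hCNP]
      refine ⟨mem_centralizer_singleton_iff.2 ?_, ?_⟩
      · calc a⁻¹ * (c : G) * a * J = a⁻¹ * ((c : G) * (a * J * a⁻¹)) * a := by group
          _ = a⁻¹ * ((t : G) * c) * a := by rw [ha, hc']
          _ = J * (a⁻¹ * (c : G) * a) := by rw [← ha]; group
      · have := hNn.conj_mem _ c.2 a⁻¹
        rwa [inv_inv] at this
    refine ⟨⟨⟨fun x y => Subtype.ext (Subtype.ext ?_)⟩⟩, fun c hc => Subtype.ext ?_⟩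
    · have := (h.comm_P _ (hin x x.2) _ (hin y y.2)).eq
      show ((x : N) : G) * ((y : N) : G) = ((y : N) : G) * ((x : N) : G)
      calc ((x : N) : G) * ((y : N) : G) = a * (a⁻¹ * (x : N) * a * (a⁻¹ * (y : N) * a)) * a⁻¹ := by group
        _ = a * (a⁻¹ * (y : N) * a * (a⁻¹ * (x : N) * a)) * a⁻¹ := by rw [this]
        _ = ((y : N) : G) * ((x : N) : G) := by group
    · have := h.sq_P _ (hin c hc)
      rw [SubmonoidClass.coe_pow]
      show (c : G) ^ 2 = 1
      rw [show a⁻¹ * (c : G) * a = a⁻¹ * (c : G) * a⁻¹⁻¹ by rw [inv_inv], conj_pow, conj_eq_one_iff] at this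
      exact this
  obtain ⟨F, iF, iFF, hF, ⟨e⟩⟩ := Cfsg.Agent.S1230.result PN hnc hnn hcent
  have hF8 : Fintype.card F = 8 := hF.trans hPN8
  refine ⟨F, iF, iFF, hF8, ?_⟩
  set φ : G →* MulAut (Matrix.ProjectiveSpecialLinearGroup (Fin 2) F) :=
    (MulAut.congr e).toMonoidHom.comp MulAut.conjNormal with hφ
  have hker : φ.ker = ⊥ := by
    by_contra hne
    have hk : ∀ x ∈ φ.ker, ∀ n : N, x * n * x⁻¹ = (n : G) := by
      intro x hx n
      rw [MonoidHom.mem_ker, hφ, MonoidHom.comp_apply, MulEquiv.coe_toMonoidHom,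
        MulEquiv.map_eq_one_iff] at hx
      rw [← MulAut.conjNormal_apply x n, hx, MulAut.one_apply]
    obtain ⟨x, hx, hxo⟩ := exists_invol_mem (G := G) (H := φ.ker) (by
      by_contra hodd
      refine hne (h.odd_trivial (Nat.not_even_iff_odd.1 hodd) ?_)
      rw [normalizer_eq_top]
      exact le_top)
    refine hNH fun n hn => h.C_le (mem_centralizer_singleton_iff.2 ?_)
    obtain ⟨k, hk'⟩ := isConj_iff.1 (h.isConj_of_invol hxo)
    have hJk : J ∈ φ.ker := by
      have := (inferInstance : φ.ker.Normal).conj_mem _ hx k⁻¹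
      rwa [← hk', show k⁻¹ * (k * J * k⁻¹) * k⁻¹⁻¹ = J by group] at this
    exact (mul_inv_eq_iff_eq_mul.1 (hk J hJk ⟨n, hn⟩)).symm
  have hinj := (MonoidHom.ker_eq_bot_iff φ).1 hker
  have hNcard : Nat.card N = 504 := by
    have hp := CfsgLib.Classical.card_psl2 (F := F)
    rw [hF8] at hp
    norm_num at hp
    rw [Nat.card_congr e.toEquiv]
    rw [Nat.card_eq_fintype_card]
    exact hp
  have hA : Nat.card (MulAut (Matrix.ProjectiveSpecialLinearGroup (Fin 2) F)) = 1512 := by
    haveI : Fact (Nat.Prime 2) := ⟨Nat.prime_two⟩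
    rw [Cfsg.Agent.S0813.result 2 3 (by norm_num) (by rw [hF8]; norm_num) 2 le_rfl (by norm_num),
      show Nat.card (Matrix.ProjGenLinGroup (Fin 2) F) = Nat.card F * (Nat.card F - 1) * (Nat.card F + 1) from
        CfsgLib.Perm.Dickson.card_G2 F, Nat.card_eq_fintype_card (α := F), hF8]
    norm_num
  haveI : Finite (MulAut (Matrix.ProjectiveSpecialLinearGroup (Fin 2) F)) :=
    Nat.finite_of_card_ne_zero (by rw [hA]; norm_num)
  refine ⟨MulEquiv.ofBijective φ ((Nat.bijective_iff_injective_and_card _).2 ⟨hinj, ?_⟩)⟩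
  rw [hA]
  have hd : Nat.card G ∣ 1512 := hA ▸ card_dvd_of_injective φ hinj
  have hi := N.index_mul_card
  rw [hNcard] at hi
  have hidx : N.index ∣ 3 := by
    have h3 : N.index * 504 ∣ 3 * 504 := by rw [hi]; exact hd
    exact Nat.dvd_of_mul_dvd_mul_right (by norm_num) h3
  rcases (Nat.dvd_prime Nat.prime_three).1 hidx with h1 | h3
  · exact absurd ((index_eq_one.1 h1).symm ▸ le_top) hCN
  · rw [← hi, h3]

end CfsgLib.Invol.TwoTimesAlt
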