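import Cfsg.Agent.Lib.Invol.TwoTimesAlt.Basic
import Cfsg.Agent.Lib.Invol.JOneWeak.Main

/-!
# An involution with centralizer `2 × A₅`: the group is the first Janko group
-/

set_option autoImplicit false
set_option linter.style.haveILetI false
set_option maxRecDepth 100000
set_option synthInstance.maxSize 4096

namespace CfsgLib.Invol.TwoTimesAlt

open Subgroup CfsgLib.Spor.J1Type

universe u

theorem alt_five_conj : ∀ a b : alternatingGroup (Fin 5), a * a = 1 → a ≠ 1 → b * b = 1 → b ≠ 1 →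
    ∃ c, c * a * c⁻¹ = b := by decide +kernel

theorem two_cases : ∀ a : Multiplicative (ZMod 2), a = Multiplicative.ofAdd 0 ∨ a = Multiplicative.ofAdd 1 := by
  decide

theorem alt_five_gen : ∀ x : alternatingGroup (Fin 5), ∃ a b, a * a = 1 ∧ b * b = 1 ∧ x = a * b := by
  decide +kernel

variable {G : Type u} [Group G] [Finite G]

theorem isoJ1_of_five {J : G} {ι : alternatingGroup (Fin 5) →* G} {P : Sylow 2 G} (h : Hyp J ι P) :
    Cfsg.Spor.IsoJ1 G := by
  obtain ⟨g, σ, hσ, hσ1, hg⟩ := h.exists_conj_mem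
  set W := Subgroup.closure {x : G | ∃ g : G, x = g * J * g⁻¹ ∧ x * J = J * x} with hW
  set φ : Multiplicative (ZMod 2) →* G := MonoidHom.mk' (fun z => J ^ (Multiplicative.toAdd z).val)
    (fun a b => by
      rw [toAdd_mul, ZMod.val_add, ← pow_add]
      conv_rhs => rw [← pow_mod_orderOf, h.invol]) with hφ
  have hc : ∀ a x, Commute (φ a) (ι x) := fun a x => (h.comm x).pow_left _
  set f : M →* G := φ.noncommCoprod ι hc with hf
  have hfi : Function.Injective f := by
    rw [← MonoidHom.ker_eq_bot_iff, eq_bot_iff]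
    rintro ⟨a, x⟩ hax
    rw [MonoidHom.mem_ker, hf, MonoidHom.noncommCoprod_apply] at hax
    rcases two_cases a with rfl | rfl
    · have hx : ι x = 1 := by simpa [hφ] using hax
      rw [h.inj (hx.trans (map_one ι).symm)]
      rfl
    · exfalso
      have hv : (1 : ZMod 2).val = 1 := rfl
      rw [show φ (Multiplicative.ofAdd 1) = J ^ (1 : ZMod 2).val from rfl, hv, pow_one,
        mul_eq_one_iff_eq_inv] at hax
      exact h.notMem ⟨x⁻¹, by rw [map_inv, hax]⟩
  have hinvol : ∀ a : alternatingGroup (Fin 5), a * a = 1 → ι a ∈ W := by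
    intro a ha
    by_cases ha1 : a = 1
    · rw [ha1, map_one]; exact one_mem _
    obtain ⟨c, hcc⟩ := alt_five_conj σ a hσ hσ1 ha ha1
    refine subset_closure ⟨ι c * g, ?_, (h.comm a).symm.eq⟩
    rw [← hcc, map_mul, map_mul, map_inv, ← hg]
    group
  have hrange : f.range = W := by
    refine le_antisymm ?_ ?_
    · rintro _ ⟨⟨a, x⟩, rfl⟩
      rw [hf, MonoidHom.noncommCoprod_apply]
      refine W.mul_mem (W.pow_mem (subset_closure ⟨1, by group, rfl⟩) _) ?_
      obtain ⟨p, q, hp, hq, rfl⟩ := alt_five_gen x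
      rw [map_mul]
      exact W.mul_mem (hinvol p hp) (hinvol q hq)
    · refine (closure_le _).2 ?_
      rintro y ⟨-, -, hy⟩
      obtain ⟨j, hj, x, rfl⟩ := h.decomp y hy
      rcases ProdFusion.mem_zpowers_invol (invol_mul_self h.invol) hj with rfl | rfl
      · exact ⟨(1, x), by simp [hf]⟩
      · refine ⟨(Multiplicative.ofAdd 1, x), ?_⟩
        rw [hf, MonoidHom.noncommCoprod_apply, show φ (Multiplicative.ofAdd 1) = j ^ (1 : ZMod 2).val from rfl,
          show (1 : ZMod 2).val = 1 from rfl, pow_one]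
  let e : ↥W ≃* M := (MulEquiv.subgroupCongr hrange.symm).trans (MonoidHom.ofInjective hfi).symm
  obtain ⟨ι', hι', hH⟩ := JOneWeak.exists_hyp h.invol P h.mem
    (fun s hs => mem_centralizer_singleton_iff.1 (h.le hs)) e
  obtain ⟨eJ⟩ := JOneWeak.main hH
  rw [hι'] at eJ
  set L := normalClosure ({J} : Set G) with hL
  have hJL : J ∈ L := subset_normalClosure (Set.mem_singleton _)
  have hWL : W ≤ L := (closure_le _).2 fun x hx => by
    obtain ⟨k, rfl, -⟩ := hx
    exact normalClosure_normal.conj_mem _ hJL k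
  have htop : L = ⊤ := by
    refine eq_top_iff.2 fun k _ => ?_
    have hkL : k * J * k⁻¹ ∈ L := normalClosure_normal.conj_mem _ hJL k
    have h1 : orderOf (eJ ⟨J, hJL⟩) = 2 := by rw [MulEquiv.orderOf_eq, Subgroup.orderOf_mk, h.invol]
    have h2 : orderOf (eJ ⟨_, hkL⟩) = 2 := by
      rw [MulEquiv.orderOf_eq, Subgroup.orderOf_mk, invol_conj h.invol k]
    obtain ⟨c, hcc⟩ := isConj_iff.1 ((CfsgLib.Char.J1.isConj_tInv h1).symm.trans (CfsgLib.Char.J1.isConj_tInv h2))
    set l : L := eJ.symm c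
    have hl : (l : G) * J * (l : G)⁻¹ = k * J * k⁻¹ := by
      have e1 : eJ (l * ⟨J, hJL⟩ * l⁻¹) = eJ ⟨_, hkL⟩ := by
        rw [map_mul, map_mul, map_inv, eJ.apply_symm_apply, hcc]
      exact congrArg Subtype.val (eJ.injective e1)
    have hcm : ((l : G)⁻¹ * k) * J = J * ((l : G)⁻¹ * k) := by
      calc (l : G)⁻¹ * k * J = (l : G)⁻¹ * (k * J * k⁻¹) * k := by group
        _ = J * ((l : G)⁻¹ * k) := by rw [← hl]; group
    have hmem : (l : G)⁻¹ * k ∈ W := by
      rw [← hrange]
      obtain ⟨j, hj, x, hx⟩ := h.decomp _ hcm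
      rw [hx]
      refine Subgroup.mul_mem _ ?_ ⟨(1, x), by simp [hf]⟩
      refine (zpowers_le.2 ?_) hj
      rw [hrange]
      exact subset_closure ⟨1, by group, rfl⟩
    have := L.mul_mem l.2 (hWL hmem)
    rwa [mul_inv_cancel_left] at this
  exact ⟨(Subgroup.topEquiv.symm.trans (MulEquiv.subgroupCongr htop.symm)).trans eJ⟩

end CfsgLib.Invol.TwoTimesAlt
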