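import Cfsg.Agent.Lib.Invol.TwoTimesAlt.Squares
import Cfsg.Agent.Lib.Fusion.Tate
import Cfsg.Agent.Lib.Invol.Basic
import Cfsg.Agent.Lib.ProdFusion.Basic
import Cfsg.Prelude.Def_TwoFusion
import Cfsg.Prelude.Def_SporadicB

/-!
# An involution with centralizer `2 × A_m`: the degree is four or five
-/

set_option autoImplicit false
set_option linter.style.haveILetI false

namespace CfsgLib.Invol.TwoTimesAlt

open Subgroup

universe u

variable {G : Type u} [Group G] [Finite G]

/-- The setting: a 2-central involution `J` with centralizer the product of `⟨J⟩` and the image of an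
alternating group, and no normal subgroup of index two. -/
structure Hyp (J : G) {m : ℕ} (ι : alternatingGroup (Fin m) →* G) (P : Sylow 2 G) : Prop where
  invol : orderOf J = 2
  inj : Function.Injective ι
  mem : J ∈ (P : Subgroup G)
  le : (P : Subgroup G) ≤ centralizer ({J} : Set G)
  comm : ∀ x, Commute J (ι x)
  notMem : J ∉ ι.range
  decomp : ∀ y : G, Commute y J → ∃ j ∈ zpowers J, ∃ x, y = j * ι x
  noIndexTwo : ∀ N : Subgroup G, N.Normal → N.index ≠ 2

theorem exists_hyp {J : G} (hJ : Cfsg.IsTwoCentralInvolution J) {m : ℕ} {T : Subgroup G}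
    (e : ↥T ≃* alternatingGroup (Fin m))
    (hd : Cfsg.IsInternalDirectProduct (zpowers J) T (centralizer ({J} : Set G)))
    (h2 : ∀ N : Subgroup G, N.Normal → N.index ≠ 2) :
    ∃ (ι : alternatingGroup (Fin m) →* G) (P : Sylow 2 G), Hyp J ι P := by
  obtain ⟨hJo, P, hJP, hP⟩ := hJ
  obtain ⟨-, hTC, hcomm, hdisj, hsup⟩ := hd
  set ι : alternatingGroup (Fin m) →* G := T.subtype.comp e.symm.toMonoidHom with hι
  have hmem : ∀ x, ι x ∈ T := fun x => (e.symm x).2
  refine ⟨ι, P, hJo, Subtype.val_injective.comp e.symm.injective, hJP,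
    fun x hx => mem_centralizer_singleton_iff.2 (hP x hx),
    fun x => hcomm J (mem_zpowers J) _ (hmem x), ?_, fun y hy => ?_, h2⟩
  · rintro ⟨x, hx⟩
    have : J ∈ zpowers J ⊓ T := ⟨mem_zpowers J, hx ▸ hmem x⟩
    rw [hdisj, mem_bot] at this
    exact invol_ne_one hJo this
  · obtain ⟨j, hj, τ, hτ, rfl⟩ := CfsgLib.Coprime.mem_sup_exists (N := zpowers J) (H := T)
      (fun b hb => centralizer_le_normalizer _ (mem_centralizer_iff.2 fun a ha => hcomm a ha b hb))
      (show y ∈ zpowers J ⊔ T from hsup.symm ▸ mem_centralizer_singleton_iff.2 hy.eq)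
    exact ⟨j, hj, e ⟨τ, hτ⟩, by rw [hι]; simp⟩

namespace Hyp

variable {J : G} {m : ℕ} {ι : alternatingGroup (Fin m) →* G} {P : Sylow 2 G} (h : Hyp J ι P)
include h

theorem sq_mem_range {y : G} (hy : Commute y J) : y * y ∈ ι.range := by
  obtain ⟨j, hj, x, rfl⟩ := h.decomp y hy
  refine ⟨x * x, ?_⟩
  rcases ProdFusion.mem_zpowers_invol (invol_mul_self h.invol) hj with rfl | rfl
  · rw [one_mul, map_mul]
  · rw [map_mul, (h.comm x).symm.mul_mul_mul_comm, invol_mul_self h.invol, one_mul]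

/-- Some conjugate of the involution lies in the alternating group. -/
theorem exists_conj_mem : ∃ g : G, ∃ σ : alternatingGroup (Fin m),
    σ * σ = 1 ∧ σ ≠ 1 ∧ g * J * g⁻¹ = ι σ := by
  set Q : Subgroup G := ι.range ⊓ (P : Subgroup G) with hQ
  have hdec : ∀ y ∈ (P : Subgroup G), ∃ j ∈ zpowers J, ∃ q ∈ Q, j * q = y := by
    intro y hy
    obtain ⟨j, hj, x, rfl⟩ := h.decomp y (mem_centralizer_singleton_iff.1 (h.le hy))
    have hjP : j ∈ (P : Subgroup G) := zpowers_le.2 h.mem hj
    refine ⟨j, hj, ι x, ⟨⟨x, rfl⟩, ?_⟩, rfl⟩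
    have := (P : Subgroup G).mul_mem ((P : Subgroup G).inv_mem hjP) hy
    rwa [inv_mul_cancel_left] at this
  have hrel : Q.relIndex (P : Subgroup G) = 2 := by
    have hbij : Function.Bijective (fun z : zpowers J × Q =>
        (⟨z.1 * z.2, mul_mem (zpowers_le.2 h.mem z.1.2) z.2.2.2⟩ : (P : Subgroup G))) := by
      constructor
      · intro a b hab
        have e : (a.1 : G) * a.2 = b.1 * b.2 := congrArg Subtype.val hab
        have e2 : (b.1 : G)⁻¹ * a.1 = b.2 * (a.2 : G)⁻¹ := by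
          rw [eq_mul_inv_iff_mul_eq, mul_assoc, e, inv_mul_cancel_left]
        have hz : (b.1 : G)⁻¹ * a.1 = 1 := by
          rcases ProdFusion.mem_zpowers_invol (invol_mul_self h.invol) (mul_mem (inv_mem b.1.2) a.1.2)
            with hh | hh
          · exact hh
          · exfalso
            refine h.notMem (hh ▸ e2 ▸ (mul_mem b.2.2.1 (inv_mem a.2.2.1) : _ ∈ ι.range))
        refine Prod.ext (Subtype.ext (inv_mul_eq_one.1 hz).symm) (Subtype.ext ?_)
        rw [hz, eq_comm, mul_inv_eq_one] at e2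
        exact e2.symm
      · rintro ⟨y, hy⟩
        obtain ⟨j, hj, q, hq, e⟩ := hdec y hy
        exact ⟨(⟨j, hj⟩, ⟨q, hq⟩), Subtype.ext e⟩
    have hc := Nat.card_eq_of_bijective _ hbij
    rw [Nat.card_prod, Nat.card_zpowers, h.invol] at hc
    have hm := (Q.subgroupOf (P : Subgroup G)).index_mul_card
    rw [Nat.card_congr (subgroupOfEquivOfLe (inf_le_right : Q ≤ _)).toEquiv, ← hc] at hm
    exact Nat.eq_of_mul_eq_mul_right Nat.card_pos hm
  by_contra hno
  push Not at hno
  obtain ⟨N, hN, hi, -⟩ := CfsgLib.Fusion.thompson_transfer P (inf_le_right : Q ≤ _) hrel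
    (show J ^ 2 = 1 by rw [sq, invol_mul_self h.invol]) fun g hg => by
      obtain ⟨σ, hσ⟩ := hg.1
      have ho := invol_conj h.invol g
      refine hno g σ (h.inj ?_) (fun e => ?_) hσ.symm
      · rw [map_mul, map_one, hσ]
        exact invol_mul_self ho
      · rw [e, map_one] at hσ
        exact invol_ne_one ho hσ.symm
  exact h.noIndexTwo N hN hi

theorem four_le : 4 ≤ m := by
  obtain ⟨g, σ, hσ, hσ1, -⟩ := h.exists_conj_mem
  by_contra hm
  have hσ3 : σ ^ 3 = 1 := by
    have hall : ∀ n < 4, ∀ x : alternatingGroup (Fin n), x ^ 3 = 1 := by decide +kernel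
    exact hall m (by omega) σ
  rw [pow_succ, pow_two, hσ, one_mul] at hσ3
  exact hσ1 hσ3

theorem lt_six : m < 6 := by
  obtain ⟨g, σ, hσ, hσ1, hg⟩ := h.exists_conj_mem
  by_contra hm
  push Not at hm
  set K : Subgroup (alternatingGroup (Fin m)) :=
    (ι.range.map (MulAut.conj g).toMonoidHom).comap ι with hK
  have hle : closure {x : alternatingGroup (Fin m) | ∃ y, y * σ = σ * y ∧ y * y = x} ≤ K := by
    refine (closure_le _).2 ?_
    rintro _ ⟨y, hy, rfl⟩
    have hyu : Commute (ι y) (g * J * g⁻¹) := by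
      rw [hg]
      show ι y * ι σ = ι σ * ι y
      rw [← map_mul, ← map_mul, hy]
    have hc : Commute (g⁻¹ * ι y * g) J := by
      show g⁻¹ * ι y * g * J = J * (g⁻¹ * ι y * g)
      calc g⁻¹ * ι y * g * J = g⁻¹ * (ι y * (g * J * g⁻¹)) * g := by group
        _ = g⁻¹ * (g * J * g⁻¹ * ι y) * g := by rw [hyu.eq]
        _ = J * (g⁻¹ * ι y * g) := by group
    refine ⟨_, h.sq_mem_range hc, ?_⟩
    show g * (g⁻¹ * ι y * g * (g⁻¹ * ι y * g)) * g⁻¹ = ι (y * y)
    rw [map_mul]; group
  obtain ⟨w, hw, e⟩ := hle (alt_mem_squares hm hσ)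
  rw [← hg] at e
  exact h.notMem (by rwa [← show w = J from mul_left_cancel (mul_right_cancel e)])

end Hyp

end CfsgLib.Invol.TwoTimesAlt
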