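import Mathlib.GroupTheory.Perm.Support
import Mathlib.GroupTheory.SpecificGroups.Alternating

/-!
# Involutions of alternating groups of degree at least six

Each is a product of squares of elements centralizing it.
-/

set_option autoImplicit false

namespace CfsgLib.Invol.TwoTimesAlt

open Equiv Equiv.Perm Finset

variable {α : Type*} [Fintype α] [DecidableEq α]

omit [Fintype α] in
theorem swap_conj_commute (σ : Perm α) {x y : α} (h : σ * swap x y * σ⁻¹ = swap x y) :
    swap x y * σ = σ * swap x y := (mul_inv_eq_iff_eq_mul.1 h).symm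

omit [Fintype α] in
theorem conj_swap (σ : Perm α) (x y : α) : σ * swap x y * σ⁻¹ = swap (σ x) (σ y) := by
  rw [mul_inv_eq_iff_eq_mul, Equiv.mul_swap_eq_swap_mul]

omit [Fintype α] in
theorem swap_comm_disjoint {a b c d : α} (h1 : a ≠ c) (h2 : a ≠ d) (h3 : b ≠ c) (h4 : b ≠ d) :
    swap a b * swap c d = swap c d * swap a b := by
  refine (mul_inv_eq_iff_eq_mul.1 ?_)
  rw [conj_swap, swap_apply_of_ne_of_ne h1.symm h3.symm, swap_apply_of_ne_of_ne h2.symm h4.symm]

/-- A double transposition inside an involution is the square of an even permutation centralizing it. -/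
theorem exists_root (hcard : 6 ≤ Fintype.card α) {σ : Perm α} (hσ : σ * σ = 1) {a c : α}
    (ha : σ a ≠ a) (hc : σ c ≠ c) (hca : c ≠ a) (hcb : c ≠ σ a) :
    ∃ g : Perm α, Perm.sign g = 1 ∧ g * σ = σ * g ∧ g * g = swap a (σ a) * swap c (σ c) := by
  have hss : ∀ x, σ (σ x) = x := fun x => by rw [← Perm.mul_apply, hσ, Perm.one_apply]
  set b := σ a with hb
  set d := σ c with hd
  have hab : a ≠ b := ha.symm
  have hcd : c ≠ d := hc.symm
  have had : a ≠ d := fun e => hcb (by rw [hb, e, hd, hss])
  have hbd : b ≠ d := fun e => hca (σ.injective e).symm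
  have hσb : σ b = a := hss a
  have hσd : σ d = c := hss c
  obtain ⟨e, f, hef, he, hf, hfix⟩ : ∃ e f : α, e ≠ f ∧ e ∉ ({a, b, c, d} : Finset α) ∧
      f ∉ ({a, b, c, d} : Finset α) ∧ σ * swap e f * σ⁻¹ = swap e f := by
    obtain ⟨e, he, f, hf, hef⟩ := Finset.one_lt_card.1 (show 1 < ({a, b, c, d} : Finset α)ᶜ.card by
      rw [Finset.card_compl]
      have : ({a, b, c, d} : Finset α).card ≤ 4 := Finset.card_le_four
      omega)
    rw [Finset.mem_compl] at he hf
    have hinv : ∀ x, x ∉ ({a, b, c, d} : Finset α) → σ x ∉ ({a, b, c, d} : Finset α) := by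
      intro x hx hm
      simp only [Finset.mem_insert, Finset.mem_singleton, not_or] at hx hm
      rcases hm with h | h | h | h
      · exact hx.2.1 (σ.injective (h.trans hσb.symm))
      · exact hx.1 (σ.injective h)
      · exact hx.2.2.2 (σ.injective (h.trans hσd.symm))
      · exact hx.2.2.1 (σ.injective h)
    by_cases h1 : σ e = e
    · by_cases h2 : σ f = f
      · exact ⟨e, f, hef, he, hf, by rw [conj_swap, h1, h2]⟩
      · exact ⟨f, σ f, Ne.symm h2, hf, hinv f hf, by rw [conj_swap, hss, swap_comm]⟩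
    · exact ⟨e, σ e, Ne.symm h1, he, hinv e he, by rw [conj_swap, hss, swap_comm]⟩
  simp only [Finset.mem_insert, Finset.mem_singleton, not_or] at he hf
  have hk1 : σ * swap a c * σ⁻¹ = swap b d := conj_swap σ a c
  have hk2 : σ * swap b d * σ⁻¹ = swap a c := by rw [conj_swap, hσb, hσd]
  have hkc : swap a c * swap b d = swap b d * swap a c := swap_comm_disjoint hab had hcb hcd
  set k := swap a c * swap b d with hk
  have hkσ : σ * k * σ⁻¹ = k := by
    rw [hk, show σ * (swap a c * swap b d) * σ⁻¹ = σ * swap a c * σ⁻¹ * (σ * swap b d * σ⁻¹) by group,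
      hk1, hk2]
    exact hkc.symm
  have hs : σ * swap c d * σ⁻¹ = swap c d := by rw [conj_swap, hσd, swap_comm]
  refine ⟨k * swap c d * swap e f, ?_, ?_, ?_⟩
  · rw [hk]
    simp only [map_mul, sign_swap hca.symm, sign_swap hbd, sign_swap hcd, sign_swap hef]
    norm_num
  · refine (mul_inv_eq_iff_eq_mul.1 ?_).symm
    rw [show σ * (k * swap c d * swap e f) * σ⁻¹ =
      σ * k * σ⁻¹ * (σ * swap c d * σ⁻¹) * (σ * swap e f * σ⁻¹) by group, hkσ, hs, hfix]
  · have hkk : k * swap c d * k = swap a b := by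
      have hkinv : k⁻¹ = k := by
        rw [hk, mul_inv_rev, swap_inv, swap_inv]
        exact hkc.symm
      conv_lhs => arg 2; rw [← hkinv]
      rw [conj_swap, hk, Perm.mul_apply, Perm.mul_apply, swap_apply_of_ne_of_ne hcb hcd, swap_apply_right,
        swap_apply_right, swap_apply_of_ne_of_ne hab.symm hcb.symm]
    have hp1 : k * swap e f = swap e f * k := by
      rw [hk, mul_assoc, swap_comm_disjoint (Ne.symm he.2.1) (Ne.symm hf.2.1) (Ne.symm he.2.2.2) (Ne.symm hf.2.2.2),
        ← mul_assoc, swap_comm_disjoint (Ne.symm he.1) (Ne.symm hf.1) (Ne.symm he.2.2.1) (Ne.symm hf.2.2.1), mul_assoc]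
    have hp2 : swap c d * swap e f = swap e f * swap c d :=
      swap_comm_disjoint (Ne.symm he.2.2.1) (Ne.symm hf.2.2.1) (Ne.symm he.2.2.2) (Ne.symm hf.2.2.2)
    have hcom : Commute (k * swap c d) (swap e f) := (show Commute k _ from hp1).mul_left hp2
    rw [show k * swap c d * swap e f * (k * swap c d * swap e f) =
      k * swap c d * (swap e f * (k * swap c d)) * swap e f by group, ← hcom.eq,
      show k * swap c d * (k * swap c d * swap e f) * swap e f =
        k * swap c d * k * swap c d * (swap e f * swap e f) by group, hkk, swap_mul_self, mul_one]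

/-- An even involution is a product of squares of even permutations centralizing it. -/
theorem mem_squares (hcard : 6 ≤ Fintype.card α) {σ : Perm α} (hσ : σ * σ = 1) (hsgn : Perm.sign σ = 1) :
    σ ∈ Subgroup.closure {x : Perm α | ∃ g, Perm.sign g = 1 ∧ g * σ = σ * g ∧ g * g = x} := by
  have hss : ∀ x, σ (σ x) = x := fun x => by rw [← Perm.mul_apply, hσ, Perm.one_apply]
  set K := Subgroup.closure {x : Perm α | ∃ g, Perm.sign g = 1 ∧ g * σ = σ * g ∧ g * g = x}
  suffices h : ∀ n (ρ : Perm α), ρ.support.card ≤ n → Perm.sign ρ = 1 →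
      (∀ x, ρ x = x ∨ ρ x = σ x) → ρ ∈ K from
    h _ σ le_rfl hsgn fun x => Or.inr rfl
  intro n
  induction n with
  | zero =>
    intro ρ hn _ _
    rw [Nat.le_zero, Finset.card_eq_zero, support_eq_empty_iff] at hn
    rw [hn]; exact one_mem _
  | succ n ih =>
    intro ρ hn hs hρ
    by_cases h1 : ρ = 1
    · rw [h1]; exact one_mem _
    obtain ⟨a, ha⟩ : ∃ a, ρ a ≠ a := by
      by_contra hno
      push Not at hno
      exact h1 (Perm.ext fun x => by simp [hno x])
    have haσ : ρ a = σ a := (hρ a).resolve_left ha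
    have hσa : σ a ≠ a := haσ ▸ ha
    have hρb : ρ (σ a) = a := by
      rcases hρ (σ a) with h | h
      · exact absurd (ρ.injective (h.trans haσ.symm)) hσa
      · rw [h, hss]
    obtain ⟨c, hc, hca, hcb⟩ : ∃ c, ρ c ≠ c ∧ c ≠ a ∧ c ≠ σ a := by
      by_contra hno
      push Not at hno
      have hρe : ρ = swap a (σ a) := by
        refine Perm.ext fun x => ?_
        by_cases hx : ρ x = x
        · rw [hx, swap_apply_of_ne_of_ne (fun e => ha (by rw [e] at hx; exact hx))]
          intro e
          rw [e, hρb] at hx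
          exact hσa hx.symm
        · rcases eq_or_ne x a with rfl | hxa
          · rw [haσ, swap_apply_left]
          · rw [hno x hx hxa, hρb, swap_apply_right]
      rw [hρe, sign_swap hσa.symm] at hs
      exact absurd hs (by decide)
    have hcσ : ρ c = σ c := (hρ c).resolve_left hc
    have hσc : σ c ≠ c := hcσ ▸ hc
    have hρd : ρ (σ c) = c := by
      rcases hρ (σ c) with h | h
      · exact absurd (ρ.injective (h.trans hcσ.symm)) hσc
      · rw [h, hss]
    have had : a ≠ σ c := fun e => hcb (by rw [e, hss])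
    have hbd : σ a ≠ σ c := fun e => hca (σ.injective e).symm
    obtain ⟨g, hg1, hg2, hg3⟩ := exists_root hcard hσ hσa hσc hca hcb
    set τ := swap a (σ a) * swap c (σ c) with hτ
    have hτK : τ ∈ K := Subgroup.subset_closure ⟨g, hg1, hg2, hg3⟩
    have hτa : τ a = σ a := by rw [hτ, Perm.mul_apply, swap_apply_of_ne_of_ne hca.symm had, swap_apply_left]
    have hτb : τ (σ a) = a := by rw [hτ, Perm.mul_apply, swap_apply_of_ne_of_ne hcb.symm hbd, swap_apply_right]
    have hτc : τ c = σ c := by
      rw [hτ, Perm.mul_apply, swap_apply_left, swap_apply_of_ne_of_ne had.symm hbd.symm]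
    have hτd : τ (σ c) = c := by rw [hτ, Perm.mul_apply, swap_apply_right, swap_apply_of_ne_of_ne hca hcb]
    have hτx : ∀ x, x ≠ a → x ≠ σ a → x ≠ c → x ≠ σ c → τ x = x := fun x h1 h2 h3 h4 => by
      rw [hτ, Perm.mul_apply, swap_apply_of_ne_of_ne h3 h4, swap_apply_of_ne_of_ne h1 h2]
    have key : ∀ x, (ρ * τ) x = x ∨ ((ρ * τ) x = ρ x ∧ x ≠ a) := by
      intro x
      rw [Perm.mul_apply]
      by_cases h1 : x = a
      · subst h1; left; rw [hτa, hρb]
      by_cases h2 : x = σ a
      · subst h2; left; rw [hτb, haσ]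
      by_cases h3 : x = c
      · subst h3; left; rw [hτc, hρd]
      by_cases h4 : x = σ c
      · subst h4; left; rw [hτd, hcσ]
      right; exact ⟨by rw [hτx x h1 h2 h3 h4], h1⟩
    have hlt : (ρ * τ).support.card < ρ.support.card := by
      refine Finset.card_lt_card (Finset.ssubset_iff_of_subset (fun x hx => ?_) |>.2 ⟨a, ?_, ?_⟩)
      · rw [mem_support] at hx ⊢
        rcases key x with h | ⟨h, -⟩
        · exact absurd h hx
        · rwa [h] at hx
      · rwa [mem_support]
      · rw [mem_support, not_not, Perm.mul_apply, hτa, hρb]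
    have hrec := ih (ρ * τ) (by omega) (by
      rw [map_mul, hs, hτ, map_mul, sign_swap hσa.symm, sign_swap hσc.symm]; norm_num) fun x => by
      rcases key x with h | ⟨h, -⟩
      · exact Or.inl h
      · rw [h]; exact hρ x
    have := K.mul_mem hrec (K.inv_mem hτK)
    rwa [mul_inv_cancel_right] at this

/-- The same inside the alternating group. -/
theorem alt_mem_squares {m : ℕ} (hm : 6 ≤ m) {σ : alternatingGroup (Fin m)} (hσ : σ * σ = 1) :
    σ ∈ Subgroup.closure {x : alternatingGroup (Fin m) | ∃ g, g * σ = σ * g ∧ g * g = x} := by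
  have h := mem_squares (by rwa [Fintype.card_fin]) (congrArg Subtype.val hσ) (Perm.mem_alternatingGroup.1 σ.2)
  have hle : Subgroup.closure {x : Perm (Fin m) | ∃ g, Perm.sign g = 1 ∧ g * σ.1 = σ.1 * g ∧ g * g = x} ≤
      (Subgroup.closure {x : alternatingGroup (Fin m) | ∃ g, g * σ = σ * g ∧ g * g = x}).map
        (alternatingGroup (Fin m)).subtype := by
    rw [MonoidHom.map_closure]
    refine Subgroup.closure_mono ?_
    rintro _ ⟨g, hg1, hg2, rfl⟩
    exact ⟨⟨g, Perm.mem_alternatingGroup.2 hg1⟩ * ⟨g, Perm.mem_alternatingGroup.2 hg1⟩,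
      ⟨⟨g, Perm.mem_alternatingGroup.2 hg1⟩, Subtype.ext hg2, rfl⟩, rfl⟩
  obtain ⟨w, hw, e⟩ := hle h
  have hwσ : w = σ := Subtype.ext e
  rw [hwσ] at hw
  exact hw

end CfsgLib.Invol.TwoTimesAlt
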